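import Groth.Agent.ShStab.K848.Hartogs
import Groth.Agent.PerfA.CohSerre
import Groth.Agent.CurvesC.RegNormal
import Groth.Agent.SymProd.K992.FibPow
import Groth.Agent.Fga.PicLocal685
import Mathlib.AlgebraicGeometry.AlgClosed.Basic

/-!
# TautSh, job J7

* `nonempty_iso_of_big` : on an integral locally Noetherian scheme with regular local rings two finite locally free
  modules which are isomorphic over an open subset whose complement has codimension at least two are isomorphic.
* `nonempty_iso_of_pr` : `pr_0^* F ≅ pr_1^* F` on `X ×_k X` implies that `F` is trivial.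
-/

set_option autoImplicit false
universe u
open CategoryTheory CategoryTheory.Limits AlgebraicGeometry

namespace K166.Hart

open K848.Hartogs K992.FibPow Groth.Agent.Fdesc.LocGen

theorem nonempty_iso_of_big {P : Scheme.{u}} [IsIntegral P] [IsLocallyNoetherian P]
    (hreg : ∀ x : P, IsRegularLocalRing (P.presheaf.stalk x)) (A B : P.Modules)
    (hA : FlatMod.IsFinLocFree A) (hB : FlatMod.IsFinLocFree B) (U : P.Opens)
    (hU : ∀ x : P, x ∉ U → (2 : WithBot ℕ∞) ≤ ringKrullDim (P.presheaf.stalk x))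
    (e : (Scheme.Modules.pullback U.ι).obj A ≅ (Scheme.Modules.pullback U.ι).obj B) : Nonempty (A ≅ B) := by
  have hn : ∀ x : P, IsIntegrallyClosed (P.presheaf.stalk x) := fun x => by
    have := hreg x
    exact Groth.Agent.CurvesC.RegNormal.isIntegrallyClosed _
  have hAc : Coh.IsCoh A := Groth.Agent.PerfA.CohSerre.isCoh_of_isFinLocFree hA
  have hBc : Coh.IsCoh B := Groth.Agent.PerfA.CohSerre.isCoh_of_isFinLocFree hB
  let c := Scheme.Modules.restrictFunctorIsoPullback U.ι
  let e' : (Scheme.Modules.restrictFunctor U.ι).obj A ≅ (Scheme.Modules.restrictFunctor U.ι).obj B :=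
    c.app A ≪≫ e ≪≫ (c.app B).symm
  obtain ⟨φ, hφ⟩ := exists_extend hn hU hBc hB e'.hom
  obtain ⟨ψ, hψ⟩ := exists_extend hn hU hAc hA e'.inv
  refine ⟨⟨φ, ψ, ?_, ?_⟩⟩
  · refine hom_ext_of_big hn hU hAc hA ?_
    rw [Functor.map_comp, hφ, hψ, e'.hom_inv_id, CategoryTheory.Functor.map_id]
  · refine hom_ext_of_big hn hU hBc hB ?_
    rw [Functor.map_comp, hφ, hψ, e'.inv_hom_id, CategoryTheory.Functor.map_id]

/-- An invertible module on a scheme with a point which specializes to no proper open subset is trivial. -/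
theorem nonempty_iso_of_forall_top {Y : Scheme.{u}} (y : Y) (hy : ∀ U : Y.Opens, y ∈ U → U = ⊤)
    (L : Y.Modules) (hL : PicF.IsInvertible L) : Nonempty (L ≅ Coh.structureModule Y) := by
  obtain ⟨U, m, hyU, hm⟩ := (isInvertible_iff L).1 hL y
  obtain rfl := hy U hyU
  have : IsIso (homOf m) := by
    rw [isIso_iff_isGen, sec_homOf]
    simpa using hm
  exact ⟨(asIso (homOf m)).symm⟩

theorem nonempty_iso_of_pr (k : Type u) [Field k] [IsAlgClosed k] (X : Scheme.{u}) [X.Over (Spec (CommRingCat.of k))]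
    [AlgebraicGeometry.IsIntegral X] [IsProper (X ↘ Spec (CommRingCat.of k))] (F : X.Modules) (hF : PicF.IsInvertible F)
    (e : (Scheme.Modules.pullback (pr (X ↘ Spec (CommRingCat.of k)) (0 : Fin 2))).obj F ≅
      (Scheme.Modules.pullback (pr (X ↘ Spec (CommRingCat.of k)) (1 : Fin 2))).obj F) :
    Nonempty (F ≅ Coh.structureModule X) := by
  set f := X ↘ Spec (CommRingCat.of k) with hf
  have hcs : CompactSpace X := QuasiCompact.compactSpace_of_compactSpace f
  obtain ⟨x, -, hx⟩ := IsClosed.exists_closed_singleton (isClosed_univ : IsClosed (Set.univ : Set X))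
    Set.univ_nonempty
  let a : Spec (CommRingCat.of k) ⟶ X := pointOfClosedPoint f x hx
  have ha : a ≫ f = 𝟙 _ := pointOfClosedPoint_comp f x hx
  let y : Fin 2 → (X ⟶ X) := ![𝟙 X, f ≫ a]
  have hy : ∀ i, y i ≫ f = f := by
    intro i
    fin_cases i
    · exact Category.id_comp f
    · change (f ≫ a) ≫ f = f
      rw [Category.assoc, ha, Category.comp_id]
  let s : X ⟶ SymProd.fibPow f 2 := lift f f y hy
  have h0 : s ≫ pr f 0 = 𝟙 X := lift_pr f f y hy 0
  have h1 : s ≫ pr f 1 = f ≫ a := lift_pr f f y hy 1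
  have e1 : F ≅ (Scheme.Modules.pullback s).obj ((Scheme.Modules.pullback (pr f (0 : Fin 2))).obj F) :=
    ((Scheme.Modules.pullbackId X).app F).symm ≪≫ (Scheme.Modules.pullbackCongr h0.symm).app F ≪≫
      ((Scheme.Modules.pullbackComp s (pr f 0)).app F).symm
  have e2 : (Scheme.Modules.pullback s).obj ((Scheme.Modules.pullback (pr f (1 : Fin 2))).obj F) ≅
      (Scheme.Modules.pullback f).obj ((Scheme.Modules.pullback a).obj F) :=
    (Scheme.Modules.pullbackComp s (pr f 1)).app F ≪≫ (Scheme.Modules.pullbackCongr h1).app F ≪≫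
      ((Scheme.Modules.pullbackComp f a).app F).symm
  obtain ⟨e3⟩ := nonempty_iso_of_forall_top (Y := Spec (CommRingCat.of k)) (default : PrimeSpectrum k)
    (fun U hU => by
      refine TopologicalSpace.Opens.ext (Set.eq_univ_of_forall fun z => ?_)
      have : z = (default : PrimeSpectrum k) := Subsingleton.elim (α := PrimeSpectrum k) _ _
      rw [this]
      exact hU) _ (isInvertible_pullback a hF)
  exact ⟨e1 ≪≫ (Scheme.Modules.pullback s).mapIso e ≪≫ e2 ≪≫ (Scheme.Modules.pullback f).mapIso e3 ≪≫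
    Groth.Agent.Fga.UnitRestrict.pullbackUnitIso f⟩

end K166.Hart
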